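import Mathlib
import Groth.Agent.Lib.Helper18.Cyc.LimSurj
import Groth.Agent.Lib.Helper18.FieldBC.LengthAlg

/-!
# The length of `K ⊗[k] L` for a purely inseparable extension `K / k`

If `K / k` is purely inseparable of exponential characteristic `p` and `L / k` is any field
extension such that `K ⊗[k] L` has finite length, then this length is a power of `p`.
-/

set_option autoImplicit false
universe u
open TensorProduct IsLocalRing

namespace Groth.Agent.Lib.Helper18.InsepLen

section generic

variable (R : Type*) [CommRing R]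

/-- A nontrivial ring with at most one prime ideal is local. -/
theorem isLocalRing_of_subsingleton [Nontrivial R] [Subsingleton (PrimeSpectrum R)] :
    IsLocalRing R := by
  obtain ⟨m, hm⟩ := Ideal.exists_maximal R
  refine IsLocalRing.of_unique_max_ideal ⟨m, hm, fun m' hm' => ?_⟩
  have := Subsingleton.elim (⟨m, hm.isPrime⟩ : PrimeSpectrum R) ⟨m', hm'.isPrime⟩
  exact (congrArg PrimeSpectrum.asIdeal this).symm

variable {R}

/-- In a ring with at most one prime ideal, non-units are nilpotent. -/
theorem isNilpotent_of_not_isUnit [Subsingleton (PrimeSpectrum R)] {x : R} (hx : ¬ IsUnit x) :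
    IsNilpotent x := by
  rw [← mem_nilradical, nilradical_eq_sInf, Ideal.mem_sInf]
  intro P hP
  obtain ⟨m, hm, hxm⟩ := exists_max_ideal_of_mem_nonunits hx
  have := Subsingleton.elim (⟨m, hm.isPrime⟩ : PrimeSpectrum R) ⟨P, hP⟩
  have h2 : m = P := congrArg PrimeSpectrum.asIdeal this
  rw [← h2]
  exact hxm

/-- A ring homomorphism from a ring with at most one prime ideal to a nontrivial ring is local. -/
theorem isLocalHom_of_subsingleton {S : Type*} [CommRing S] [Nontrivial S]
    [Subsingleton (PrimeSpectrum R)] (φ : R →+* S) : IsLocalHom φ := by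
  constructor
  intro a ha
  by_contra hna
  have h1 : IsNilpotent (φ a) := (isNilpotent_of_not_isUnit hna).map φ
  exact h1.not_isUnit ha  

/-- Along a flat local homomorphism `A → B` with `𝔪_A B = 𝔪_B` the lengths of the rings agree. -/
theorem length_eq_of_flat {A B : Type*} [CommRing A] [CommRing B] [IsLocalRing A] [IsLocalRing B]
    [Algebra A B] [IsLocalHom (algebraMap A B)] [Module.Flat A B]
    (h : (maximalIdeal A).map (algebraMap A B) = maximalIdeal B) :
    Module.length B B = Module.length A A := by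
  have h1 := IsLocalRing.length_baseChange A B A
  rw [h, Groth.Agent.Lib.Helper18.CycDiv.length_quot_maximalIdeal, mul_one] at h1
  rw [← h1]
  exact (TensorProduct.AlgebraTensorModule.rid A B B).length_eq.symm

/-- If a local ring `T` of finite length is covered (on finite subsets) by flat local subrings
whose lengths are powers of `p`, then the length of `T` is a power of `p`. -/
theorem length_eq_pow_of_cover (p : ℕ) (T : Type*) [CommRing T] [IsLocalRing T]
    (hT : Module.length T T ≠ ⊤)
    (hcov : ∀ s : Finset T, ∃ (A : CommRingCat.{u}) (_ : IsLocalRing A) (φ : A →+* T),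
      IsLocalHom φ ∧ φ.Flat ∧
      (∃ n : ℕ, Module.length A A = (p ^ n : ℕ)) ∧ (s : Set T) ⊆ Set.range φ) :
    ∃ n : ℕ, Module.length T T = (p ^ n : ℕ) := by
  have hfl : IsFiniteLength T T := Module.length_ne_top_iff.1 hT
  haveI : IsNoetherianRing T := (isFiniteLength_iff_isNoetherian_isArtinian.1 hfl).1
  obtain ⟨s, hs⟩ := (isNoetherianRing_iff_ideal_fg T).1 inferInstance (maximalIdeal T)
  obtain ⟨A, _, φ, hloc, hflat, ⟨n, hn⟩, hsub⟩ := hcov s
  letI := φ.toAlgebra
  haveI : IsLocalHom (algebraMap A T) := hloc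
  haveI : Module.Flat A T := hflat
  refine ⟨n, ?_⟩
  rw [← hn]
  apply length_eq_of_flat
  apply le_antisymm
  · have hl : IsLocalHom (algebraMap A T) := hloc
    exact ((IsLocalRing.local_hom_TFAE (algebraMap A T)).out 0 2).1 hl
  · rw [← hs, Ideal.span_le]
    intro t ht
    obtain ⟨a, rfl⟩ := hsub ht
    apply Ideal.mem_map_of_mem
    rw [mem_maximalIdeal, mem_nonunits_iff]
    intro hu
    have h1 : φ a ∈ maximalIdeal T := by
      rw [← hs]
      exact Ideal.subset_span ht
    exact h1 (hu.map φ)

end generic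

section enat

theorem enat_dvd_of_mul_eq (a b : ℕ∞) (n : ℕ) (hn : n ≠ 0) (h : a * b = n) :
    ∃ a' : ℕ, a = a' ∧ a' ∣ n := by
  have hb0 : b ≠ 0 := by
    rintro rfl
    rw [mul_zero] at h
    exact hn (by exact_mod_cast h.symm)
  have ha0 : a ≠ 0 := by
    rintro rfl
    rw [zero_mul] at h
    exact hn (by exact_mod_cast h.symm)
  have ha : a ≠ ⊤ := by
    rintro rfl
    rw [ENat.top_mul hb0] at h
    exact ENat.coe_ne_top n h.symm
  have hb : b ≠ ⊤ := by
    rintro rfl
    rw [ENat.mul_top ha0] at h
    exact ENat.coe_ne_top n h.symm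
  lift a to ℕ using ha
  lift b to ℕ using hb
  refine ⟨a, rfl, ⟨b, ?_⟩⟩
  exact_mod_cast h.symm

end enat

section tensor

variable (k K L : Type u) [Field k] [Field K] [Field L] [Algebra k K] [Algebra k L]

theorem subsingleton_left [IsPurelyInseparable k K] :
    Subsingleton (PrimeSpectrum (L ⊗[k] K)) :=
  (PrimeSpectrum.isHomeomorph_comap_of_isPurelyInseparable k K L).injective.subsingleton

theorem subsingleton_right [IsPurelyInseparable k K] :
    Subsingleton (PrimeSpectrum (K ⊗[k] L)) := by
  haveI := subsingleton_left k K L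
  let e : (L ⊗[k] K) ≃+* (K ⊗[k] L) := (Algebra.TensorProduct.comm k L K).toRingEquiv
  exact (PrimeSpectrum.comap_injective_of_surjective e.toRingHom e.surjective).subsingleton

theorem isLocalRing_left [IsPurelyInseparable k K] : IsLocalRing (L ⊗[k] K) :=
  haveI := subsingleton_left k K L
  isLocalRing_of_subsingleton _

theorem isLocalRing_right [IsPurelyInseparable k K] : IsLocalRing (K ⊗[k] L) :=
  haveI := subsingleton_right k K L
  isLocalRing_of_subsingleton _

/-- The length of `L ⊗[k] E` for a finite purely inseparable extension `E / k`. -/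
theorem length_left_eq_pow (p : ℕ) [ExpChar k p] [IsPurelyInseparable k K]
    [FiniteDimensional k K] :
    ∃ n : ℕ, Module.length (L ⊗[k] K) (L ⊗[k] K) = (p ^ n : ℕ) := by
  haveI := isLocalRing_left k K L
  haveI : IsLocalHom (algebraMap L (L ⊗[k] K)) := by
    haveI : Subsingleton (PrimeSpectrum L) := inferInstance
    exact isLocalHom_of_subsingleton _
  have h1 := IsLocalRing.length_restrictScalars L (L ⊗[k] K) (L ⊗[k] K)
  obtain ⟨a, ha⟩ := IsPurelyInseparable.finrank_eq_pow k K p
  have h2 : Module.length L (L ⊗[k] K) = ((p ^ a : ℕ) : ℕ∞) := by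
    rw [Module.length_eq_finrank, Module.finrank_baseChange, ha]
  rw [h2] at h1
  have hp0 : p ^ a ≠ 0 := by
    have : 0 < p := expChar_pos k p
    positivity
  obtain ⟨c, hc, hdvd⟩ := enat_dvd_of_mul_eq _ _ (p ^ a) hp0 h1.symm
  rcases ‹ExpChar k p› with _ | ⟨hprime⟩
  · refine ⟨0, ?_⟩
    rw [hc]
    simp only [one_pow, Nat.dvd_one] at hdvd
    rw [hdvd]
    simp
  · obtain ⟨n, -, hn⟩ := (Nat.dvd_prime_pow hprime).1 hdvd
    exact ⟨n, by rw [hc, hn]⟩

/-- The length of `E ⊗[k] L` for a finite purely inseparable extension `E / k`. -/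
theorem length_right_eq_pow (p : ℕ) [ExpChar k p] [IsPurelyInseparable k K]
    [FiniteDimensional k K] :
    ∃ n : ℕ, Module.length (K ⊗[k] L) (K ⊗[k] L) = (p ^ n : ℕ) := by
  obtain ⟨n, hn⟩ := length_left_eq_pow k K L p
  refine ⟨n, ?_⟩
  rw [← hn]
  exact Groth.Agent.Lib.Helper18.FieldBC.length_self_eq_of_ringEquiv
    (Algebra.TensorProduct.comm k K L).toRingEquiv

end tensor

section intermediate

variable {k K L : Type u} [Field k] [Field K] [Field L] [Algebra k K] [Algebra k L]

/-- The comparison map `E ⊗[k] L → K ⊗[k] L` for an intermediate field `E`. -/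
noncomputable def incl (L : Type u) [Field L] [Algebra k L] (E : IntermediateField k K) :
    (E ⊗[k] L) →ₐ[k] (K ⊗[k] L) :=
  Algebra.TensorProduct.map E.val (AlgHom.id k L)

@[simp]
theorem incl_tmul (E : IntermediateField k K) (e : E) (l : L) :
    incl L E (e ⊗ₜ l) = (e : K) ⊗ₜ l := by
  simp [incl]

/-- Ring homomorphisms between commutative rings (with the semiring structures taken from the
commutative ring structures). -/
abbrev RH (A B : Type*) [CommRing A] [CommRing B] := A →+* B

/-- The comparison map as a ring homomorphism (between the commutative ring structures). -/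
noncomputable def inclR (L : Type u) [Field L] [Algebra k L] (E : IntermediateField k K) :
    RH (E ⊗[k] L) (K ⊗[k] L) :=
  (incl L E).toRingHom

theorem inclR_apply (E : IntermediateField k K) (x : E ⊗[k] L) : inclR L E x = incl L E x := rfl

theorem range_incl_mono {E₁ E₂ : IntermediateField k K} (h : E₁ ≤ E₂) :
    Set.range (incl L E₁) ⊆ Set.range (incl L E₂) := by
  rintro _ ⟨x, rfl⟩
  refine ⟨Algebra.TensorProduct.map (IntermediateField.inclusion h) (AlgHom.id k L) x, ?_⟩
  have : (incl L E₂).comp (Algebra.TensorProduct.map (IntermediateField.inclusion h)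
      (AlgHom.id k L)) = incl L E₁ := by
    apply Algebra.TensorProduct.ext'
    intro e l
    simp
  exact congrArg (fun f => f x) this

theorem exists_mem_range_incl [Algebra.IsAlgebraic k K] (t : K ⊗[k] L) :
    ∃ E : IntermediateField k K, FiniteDimensional k E ∧ t ∈ Set.range (incl L E) := by
  induction t using TensorProduct.induction_on with
  | zero => exact ⟨⊥, inferInstance, 0, map_zero _⟩
  | tmul a l =>
    refine ⟨IntermediateField.adjoin k {a},
      IntermediateField.adjoin.finiteDimensional (Algebra.IsIntegral.isIntegral a),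
      (⟨a, IntermediateField.mem_adjoin_simple_self k a⟩ : IntermediateField.adjoin k {a}) ⊗ₜ l, ?_⟩
    simp
  | add x y hx hy =>
    obtain ⟨E₁, hE₁, hx⟩ := hx
    obtain ⟨E₂, hE₂, hy⟩ := hy
    haveI := hE₁
    haveI := hE₂
    refine ⟨E₁ ⊔ E₂, IntermediateField.finiteDimensional_sup E₁ E₂, ?_⟩
    obtain ⟨x', rfl⟩ := range_incl_mono (L := L) (le_sup_left : E₁ ≤ E₁ ⊔ E₂) hx
    obtain ⟨y', rfl⟩ := range_incl_mono (L := L) (le_sup_right : E₂ ≤ E₁ ⊔ E₂) hy
    exact ⟨x' + y', map_add _ _ _⟩

theorem exists_subset_range_incl [Algebra.IsAlgebraic k K] (s : Finset (K ⊗[k] L)) :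
    ∃ E : IntermediateField k K, FiniteDimensional k E ∧
      (s : Set (K ⊗[k] L)) ⊆ Set.range (incl L E) := by
  classical
  induction s using Finset.induction_on with
  | empty => exact ⟨⊥, inferInstance, by simp⟩
  | insert t s _ ih =>
    obtain ⟨E₁, hE₁, h1⟩ := ih
    obtain ⟨E₂, hE₂, h2⟩ := exists_mem_range_incl (L := L) t
    haveI := hE₁
    haveI := hE₂
    refine ⟨E₁ ⊔ E₂, IntermediateField.finiteDimensional_sup E₁ E₂, ?_⟩
    intro x hx
    rw [Finset.coe_insert] at hx
    rcases hx with rfl | hx
    · exact range_incl_mono (L := L) (le_sup_right : E₂ ≤ E₁ ⊔ E₂) h2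
    · exact range_incl_mono (L := L) (le_sup_left : E₁ ≤ E₁ ⊔ E₂) (h1 hx)

/-- `K ⊗[k] L` is flat over `E ⊗[k] L`. -/
theorem flat_incl (E : IntermediateField k K) : (inclR L E).Flat := by
  letI alg : Algebra (E ⊗[k] L) (K ⊗[k] L) := (incl L E).toRingHom.toAlgebra
  haveI : IsScalarTower E (E ⊗[k] L) (K ⊗[k] L) := by
    refine IsScalarTower.of_algebraMap_eq (R := E) (S := E ⊗[k] L) (A := K ⊗[k] L) fun e => ?_
    show algebraMap E (K ⊗[k] L) e = incl L E (algebraMap E (E ⊗[k] L) e)
    rw [Algebra.TensorProduct.algebraMap_apply]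
    simp only [Algebra.algebraMap_self, RingHom.id_apply, incl_tmul]
    rw [Algebra.algebraMap_eq_smul_one, Algebra.TensorProduct.one_def]
    show (e : K) • ((1 : K) ⊗ₜ[k] (1 : L)) = _
    rw [TensorProduct.smul_tmul', smul_eq_mul, mul_one]
  have hpo : Algebra.IsPushout E K (E ⊗[k] L) (K ⊗[k] L) := by
    refine Algebra.IsPushout.tensorProduct_tensorProduct k L E K ?_
    ext l
    show incl L E ((1 : E) ⊗ₜ l) = (1 : K) ⊗ₜ l
    simp
  have hpo' : Algebra.IsPushout E (E ⊗[k] L) K (K ⊗[k] L) := hpo.symm
  haveI : Module.Free E K := Module.Free.of_divisionRing E K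
  haveI : Module.Flat E K := Module.Flat.of_free
  have := Module.Flat.isBaseChange E (E ⊗[k] L) K (K ⊗[k] L) hpo'.out
  exact this

/-- **The length of `K ⊗[k] L` for `K / k` purely inseparable is a power of the exponential
characteristic, if finite.** -/
theorem length_eq_pow (p : ℕ) [ExpChar k p] [IsPurelyInseparable k K]
    (hT : Module.length (K ⊗[k] L) (K ⊗[k] L) ≠ ⊤) :
    ∃ n : ℕ, Module.length (K ⊗[k] L) (K ⊗[k] L) = (p ^ n : ℕ) := by
  haveI := isLocalRing_right k K L
  apply length_eq_pow_of_cover.{u} p _ hT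
  intro s
  obtain ⟨E, hE, hsub⟩ := exists_subset_range_incl (L := L) s
  haveI := hE
  haveI : IsPurelyInseparable k E := IsPurelyInseparable.tower_bot k E K
  haveI := subsingleton_right k E L
  refine ⟨CommRingCat.of (E ⊗[k] L), isLocalRing_right k E L, inclR L E,
    isLocalHom_of_subsingleton _, flat_incl E, length_right_eq_pow k E L p, hsub⟩

end intermediate

end Groth.Agent.Lib.Helper18.InsepLen
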