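import Mathlib
import Groth.Prelude.Def_Cyc
import Groth.Agent.Lib.Helper18.Insep.PowLength
import Groth.Agent.Lib.Helper18.Aff.FibModel
import Groth.Agent.Lib.Helper18.Cyc.FibreMax
import Groth.Agent.Lib.Helper18.Push.BCDeg

/-!
# Base change of cycles to the perfect closure
-/

set_option autoImplicit false
set_option linter.style.haveILetI false
universe u
open AlgebraicGeometry CategoryTheory Limits IsLocalRing TensorProduct

namespace Groth.Agent.Lib.Helper18.PerfBC

open Groth.Agent.Lib.Helper18.CycPull Groth.Agent.Lib.Helper24.FibreDim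
  Groth.Agent.Lib.Helper18.Push Groth.Agent.Lib.Helper18.AffFib

section field

variable (k : Type u) [Field k] (p : ℕ) [Fact p.Prime] [CharP k p]

theorem isPurelyInseparable_perfectClosure :
    letI := (PerfectClosure.of k p).toAlgebra
    IsPurelyInseparable k (PerfectClosure k p) := by
  letI := (PerfectClosure.of k p).toAlgebra
  haveI : ExpChar k p := ExpChar.prime Fact.out
  rw [isPurelyInseparable_iff_pow_mem k p]
  intro x
  obtain ⟨n, y, hy⟩ := (PerfectClosure.isPRadical k p).pow_mem' x
  exact ⟨n, y, hy⟩

/-- The spectrum of the perfect closure is universally injective over the spectrum of the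
field. -/
instance univInj_perfectClosure :
    UniversallyInjective (Spec.map (CommRingCat.ofHom (PerfectClosure.of k p))) := by
  letI := (PerfectClosure.of k p).toAlgebra
  haveI := isPurelyInseparable_perfectClosure k p
  apply ((tfae_universallyInjective _).out 0 1).2
  intro K _ h₁ h₂ heq
  obtain ⟨ψ₁, rfl⟩ := Spec.map_surjective h₁
  obtain ⟨ψ₂, rfl⟩ := Spec.map_surjective h₂
  have heq' : Spec.map (CommRingCat.ofHom (PerfectClosure.of k p) ≫ ψ₁) =
      Spec.map (CommRingCat.ofHom (PerfectClosure.of k p) ≫ ψ₂) := by
    rw [Spec.map_comp, Spec.map_comp]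
    exact heq
  have h3 := Spec.map_injective heq'
  congr 1
  apply CommRingCat.hom_ext
  apply IsPurelyInseparable.injective_comp_algebraMap k (PerfectClosure k p) K
  exact congrArg CommRingCat.Hom.hom h3

end field

section trdeg

/-- Additivity of residue transcendence degrees for a composition. -/
theorem trdeg_comp {A B C : Scheme.{u}} (a : A ⟶ B) (b : B ⟶ C) (w : A) :
    @Algebra.trdeg (C.residueField ((a ≫ b) w)) (A.residueField w) _ _
      ((a ≫ b).residueFieldMap w).hom.toAlgebra =
    @Algebra.trdeg (C.residueField (b (a w))) (B.residueField (a w)) _ _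
      (b.residueFieldMap (a w)).hom.toAlgebra +
    @Algebra.trdeg (B.residueField (a w)) (A.residueField w) _ _
      (a.residueFieldMap w).hom.toAlgebra := by
  show @Algebra.trdeg (C.residueField (b (a w))) (A.residueField w) _ _
      ((a ≫ b).residueFieldMap w).hom.toAlgebra = _
  letI a1 : Algebra (C.residueField (b (a w))) (B.residueField (a w)) :=
    (b.residueFieldMap (a w)).hom.toAlgebra
  letI a2 : Algebra (B.residueField (a w)) (A.residueField w) :=
    (a.residueFieldMap w).hom.toAlgebra
  letI a3 : Algebra (C.residueField (b (a w))) (A.residueField w) :=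
    ((a ≫ b).residueFieldMap w).hom.toAlgebra
  haveI : IsScalarTower (C.residueField (b (a w))) (B.residueField (a w)) (A.residueField w) := by
    refine IsScalarTower.of_algebraMap_eq fun r => ?_
    show ((a ≫ b).residueFieldMap w).hom r =
      (a.residueFieldMap w).hom ((b.residueFieldMap (a w)).hom r)
    rw [Scheme.residueFieldMap_comp]
    rfl
  haveI : FaithfulSMul (C.residueField (b (a w))) (B.residueField (a w)) :=
    (faithfulSMul_iff_algebraMap_injective _ _).2 (RingHom.injective _)
  haveI : FaithfulSMul (B.residueField (a w)) (A.residueField w) :=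
    (faithfulSMul_iff_algebraMap_injective _ _).2 (RingHom.injective _)
  exact (trdeg_add_eq (C.residueField (b (a w))) (B.residueField (a w))
    (A := A.residueField w)).symm

/-- The residue field extensions of a universally injective morphism have transcendence degree
zero. -/
theorem trdeg_eq_zero_of_universallyInjective {A B : Scheme.{u}} (a : A ⟶ B)
    [UniversallyInjective a] (w : A) :
    @Algebra.trdeg (B.residueField (a w)) (A.residueField w) _ _
      (a.residueFieldMap w).hom.toAlgebra = 0 := by
  have h0 : Function.Injective a ∧ ∀ x, (a.residueFieldMap x).hom.IsPurelyInseparable :=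
    ((tfae_universallyInjective a).out 0 2).1 ‹UniversallyInjective a›
  have h := h0.2 w
  letI := (a.residueFieldMap w).hom.toAlgebra
  haveI : IsPurelyInseparable (B.residueField (a w)) (A.residueField w) := h
  exact _root_.trdeg_eq_zero

/-- Residue transcendence degrees are invariant under universally injective base change. -/
theorem tr_snd_eq {X S S' : Scheme.{u}} (f : X ⟶ S) (g : S' ⟶ S) [LocallyOfFiniteType f]
    [UniversallyInjective g] (x' : ↥(pullback f g)) :
    tr (pullback.snd f g) x' = tr f (pullback.fst f g x') := by
  haveI : UniversallyInjective (pullback.fst f g) :=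
    MorphismProperty.of_isPullback (IsPullback.of_hasPullback f g).flip ‹UniversallyInjective g›
  have h1 := trdeg_comp (pullback.fst f g) f x'
  have h2 := trdeg_comp (pullback.snd f g) g x'
  have h3 := trdeg_congr_hom _ _ (pullback.condition (f := f) (g := g)) x'
  rw [trdeg_eq_zero_of_universallyInjective (pullback.fst f g) x', add_zero] at h1
  rw [trdeg_eq_zero_of_universallyInjective g, zero_add] at h2
  have h4 : ((tr (pullback.snd f g) x' : ℕ) : Cardinal.{u}) = (tr f (pullback.fst f g x') : ℕ) := by
    rw [← tr_spec (pullback.snd f g) x', ← tr_spec f (pullback.fst f g x'), ← h1, ← h2, h3]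
  exact_mod_cast h4

end trdeg

section fibre

variable (k : Type u) [Field k] (p : ℕ) [Fact p.Prime] [CharP k p] {X : Scheme.{u}}
  (f : X ⟶ Spec (CommRingCat.of k))

attribute [local instance] Algebra.TensorProduct.rightAlgebra

/-- The fibre of the base change to the perfect closure over a point `x` is the spectrum of
`k' ⊗[k] κ(x)`. -/
theorem exists_fibModel (x : X) :
    ∃ (φ : CommRingCat.of k ⟶ X.residueField x),
      letI := φ.hom.toAlgebra
      letI := (PerfectClosure.of k p).toAlgebra
      ∃ (b : Spec (CommRingCat.of (PerfectClosure k p ⊗[k] X.residueField x)) ⟶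
          pullback f (Spec.map (CommRingCat.ofHom (PerfectClosure.of k p)))),
        IsPullback b (Spec.map (CommRingCat.ofHom (algebraMap (X.residueField x)
          (PerfectClosure k p ⊗[k] X.residueField x))))
          (pullback.fst f (Spec.map (CommRingCat.ofHom (PerfectClosure.of k p))))
          (X.fromSpecResidueField x) := by
  obtain ⟨φ, hφ⟩ := Spec.map_surjective (X.fromSpecResidueField x ≫ f)
  refine ⟨φ, ?_⟩
  letI algκ : Algebra k (X.residueField x) := φ.hom.toAlgebra
  letI algk' : Algebra k (PerfectClosure k p) := (PerfectClosure.of k p).toAlgebra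
  have hpo := CommRingCat.isPushout_of_isPushout k (PerfectClosure k p) (X.residueField x)
    (PerfectClosure k p ⊗[k] X.residueField x)
  have hpb := isPullback_SpecMap_of_isPushout _ _ _ _ hpo
  have hφ' : Spec.map (CommRingCat.ofHom (algebraMap k (X.residueField x))) =
      X.fromSpecResidueField x ≫ f := hφ
  have hw : (Spec.map (CommRingCat.ofHom (algebraMap (X.residueField x)
      (PerfectClosure k p ⊗[k] X.residueField x))) ≫ X.fromSpecResidueField x) ≫ f =
      Spec.map (CommRingCat.ofHom (algebraMap (PerfectClosure k p)
        (PerfectClosure k p ⊗[k] X.residueField x))) ≫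
        Spec.map (CommRingCat.ofHom (PerfectClosure.of k p)) := by
    rw [Category.assoc, ← hφ']
    exact hpb.w.symm
  refine ⟨pullback.lift _ _ hw, ?_⟩
  refine IsPullback.of_right ?_ (pullback.lift_fst _ _ hw)
    (IsPullback.of_hasPullback f (Spec.map (CommRingCat.ofHom (PerfectClosure.of k p)))).flip
  rw [pullback.lift_snd, ← hφ']
  exact hpb

theorem length_stalk_closedPoint (R : CommRingCat.{u}) [IsLocalRing R] :
    Module.length ((Spec R).presheaf.stalk (closedPoint R))
      ((Spec R).presheaf.stalk (closedPoint R) ⧸
        (⊥ : Ideal ((Spec R).presheaf.stalk (closedPoint R)))) = Module.length R R := by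
  rw [(Submodule.quotEquivOfEqBot ⊥ rfl).length_eq]
  exact Groth.Agent.Lib.Helper18.FieldBC.length_self_eq_of_ringEquiv
    (stalkClosedPointIso R).commRingCatIsoToRingEquiv

/-- **The fibre lengths of the base change to the perfect closure are powers of `p`.** -/
theorem fibLen_eq_pow [LocallyOfFiniteType f]
    (x' : ↥(pullback f (Spec.map (CommRingCat.ofHom (PerfectClosure.of k p))))) :
    ∃ e : ℕ, Module.length
      ((pullback f (Spec.map (CommRingCat.ofHom (PerfectClosure.of k p)))).presheaf.stalk x')
      ((pullback f (Spec.map (CommRingCat.ofHom (PerfectClosure.of k p)))).presheaf.stalk x' ⧸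
        Ideal.map ((pullback.fst f (Spec.map (CommRingCat.ofHom
          (PerfectClosure.of k p)))).stalkMap x').hom
        (maximalIdeal (X.presheaf.stalk (pullback.fst f (Spec.map (CommRingCat.ofHom
          (PerfectClosure.of k p))) x')))) = ((p ^ e : ℕ) : ℕ∞) := by
  haveI : ExpChar k p := ExpChar.prime Fact.out
  haveI : UniversallyInjective (pullback.fst f (Spec.map (CommRingCat.ofHom
      (PerfectClosure.of k p)))) :=
    MorphismProperty.of_isPullback (IsPullback.of_hasPullback f _).flip
      (univInj_perfectClosure k p)
  haveI : IsLocallyNoetherian (pullback f (Spec.map (CommRingCat.ofHom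
      (PerfectClosure.of k p)))) :=
    LocallyOfFiniteType.isLocallyNoetherian (pullback.snd f _)
  have hfin := (length_ne_top_iff_isMax (pullback.fst f (Spec.map (CommRingCat.ofHom
      (PerfectClosure.of k p)))) x').2 (fun y hy _ => Scheme.Hom.injective _ hy)
  obtain ⟨φ, hsq⟩ := exists_fibModel k p f (pullback.fst f (Spec.map (CommRingCat.ofHom
      (PerfectClosure.of k p))) x')
  letI algκ : Algebra k (X.residueField (pullback.fst f (Spec.map (CommRingCat.ofHom
      (PerfectClosure.of k p))) x')) := φ.hom.toAlgebra
  letI algk' : Algebra k (PerfectClosure k p) := (PerfectClosure.of k p).toAlgebra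
  haveI := isPurelyInseparable_perfectClosure k p
  obtain ⟨b, sq⟩ := hsq
  have hx'r : x' ∈ Set.range b := by
    rw [range_g sq]
    rfl
  obtain ⟨z, hz⟩ := hx'r
  haveI hsub := Groth.Agent.Lib.Helper18.InsepLen.subsingleton_right k (PerfectClosure k p)
    (X.residueField (pullback.fst f (Spec.map (CommRingCat.ofHom (PerfectClosure.of k p))) x'))
  haveI hloc := Groth.Agent.Lib.Helper18.InsepLen.isLocalRing_right k (PerfectClosure k p)
    (X.residueField (pullback.fst f (Spec.map (CommRingCat.ofHom (PerfectClosure.of k p))) x'))
  have hzc : z = closedPoint (PerfectClosure k p ⊗[k] X.residueField (pullback.fst f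
      (Spec.map (CommRingCat.ofHom (PerfectClosure.of k p))) x')) :=
    Subsingleton.elim (α := PrimeSpectrum _) _ _
  have h1 := fibLen_eq_of_isPullback sq z
  have h2 := fibLen_eq_of_field _ (Field.toIsField _) (Spec.map (CommRingCat.ofHom (algebraMap
    (X.residueField (pullback.fst f (Spec.map (CommRingCat.ofHom (PerfectClosure.of k p))) x'))
    (PerfectClosure k p ⊗[k] X.residueField (pullback.fst f (Spec.map (CommRingCat.ofHom
      (PerfectClosure.of k p))) x'))))) z
  unfold fibLen fibIdeal at h2
  rw [h2] at h1
  rw [← hz] at hfin ⊢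
  rw [← h1] at hfin ⊢
  subst hzc
  have e1 := length_stalk_closedPoint (CommRingCat.of (PerfectClosure k p ⊗[k]
    X.residueField (pullback.fst f (Spec.map (CommRingCat.ofHom (PerfectClosure.of k p))) x')))
  rw [e1] at hfin ⊢
  exact Groth.Agent.Lib.Helper18.InsepLen.length_eq_pow p hfin

end fibre

end Groth.Agent.Lib.Helper18.PerfBC
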