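import Mathlib
import Groth.Prelude.Def_Cyc
import Groth.Agent.Lib.Helper18.Insep.PerfBC
import Groth.Agent.Lib.Helper18.Cyc.PullComp

/-!
# Cycles on the base change to the perfect closure come from the ground field up to `p`-powers
-/

set_option autoImplicit false
set_option linter.style.haveILetI false
universe u
open AlgebraicGeometry CategoryTheory Limits IsLocalRing TensorProduct

namespace Groth.Agent.Lib.Helper18.PerfBC

open Groth.Agent.Lib.Helper18.CycPull Groth.Agent.Lib.Helper24.FibreDim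

variable (k : Type u) [Field k] (p : ℕ) [Fact p.Prime] [CharP k p]

local notation "𝔤" => Spec.map (CommRingCat.ofHom (PerfectClosure.of k p))

theorem main (X : Scheme.{u})
    (f : X ⟶ Spec (CommRingCat.of k)) [LocallyOfFiniteType f] [QuasiCompact f] (δ : X → ℤ)
    (hδ : Cyc.DeltaCompat f δ (fun _ => 0))
    (δ' : ↥(pullback f 𝔤) → ℤ)
    (hδ' : Cyc.DeltaCompat (pullback.snd f 𝔤) δ' (fun _ => 0)) (r : ℤ)
    (β : AlgebraicCycle (pullback f 𝔤) ℤ)
    (hβ : β ∈ Cyc.Zk _ δ' r) :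
    ∃ (n : ℕ) (α : AlgebraicCycle X ℤ), α ∈ Cyc.Zk X δ r ∧
      (p : ℤ) ^ n • ⇑β = Cyc.pullFun (pullback.fst f 𝔤) δ' δ 0 ⇑α := by
  classical
  haveI : UniversallyInjective (pullback.fst f 𝔤) :=
    MorphismProperty.of_isPullback (IsPullback.of_hasPullback f 𝔤).flip
      (univInj_perfectClosure k p)
  have hinj : Function.Injective (pullback.fst f 𝔤) := Scheme.Hom.injective (pullback.fst f 𝔤)
  have hδeq : ∀ x', δ' x' = δ ((pullback.fst f 𝔤) x') := by
    intro x'
    rw [delta_eq_add_tr (pullback.snd f 𝔤) δ' _ hδ' x', delta_eq_add_tr f δ _ hδ ((pullback.fst f 𝔤) x'),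
      tr_snd_eq f 𝔤 x']
  choose e he using fibLen_eq_pow k p f
  haveI : CompactSpace ↥(pullback f 𝔤) :=
    QuasiCompact.compactSpace_of_compactSpace (pullback.snd f 𝔤)
  have hfin : (Function.support β).Finite := by
    have := (Function.locallyFinsupp.locallyFiniteSupport β).finite_inter_support_of_isCompact
      (isCompact_univ (X := ↥(pullback f 𝔤)))
    simpa using this
  set n := hfin.toFinset.sup e with hn
  have hle : ∀ x', β x' ≠ 0 → e x' ≤ n := fun x' hx' =>
    Finset.le_sup (f := e) (hfin.mem_toFinset.2 hx')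
  let a : X → ℤ := fun x => if h : ∃ x', (pullback.fst f 𝔤) x' = x ∧ β x' ≠ 0 then
    β h.choose * (p : ℤ) ^ (n - e h.choose) else 0
  have ha : ∀ x', β x' ≠ 0 → a ((pullback.fst f 𝔤) x') = β x' * (p : ℤ) ^ (n - e x') := by
    intro x' hx'
    have h : ∃ y, (pullback.fst f 𝔤) y = (pullback.fst f 𝔤) x' ∧ β y ≠ 0 := ⟨x', rfl, hx'⟩
    have hc : h.choose = x' := hinj h.choose_spec.1
    show (if h : ∃ y, (pullback.fst f 𝔤) y = (pullback.fst f 𝔤) x' ∧ β y ≠ 0 then β h.choose * (p : ℤ) ^ (n - e h.choose) else 0) = _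
    rw [dif_pos h, hc]
  have ha0 : ∀ x', β x' = 0 → a ((pullback.fst f 𝔤) x') = 0 := by
    intro x' hx'
    show (if h : ∃ y, (pullback.fst f 𝔤) y = (pullback.fst f 𝔤) x' ∧ β y ≠ 0 then β h.choose * (p : ℤ) ^ (n - e h.choose) else 0) = _
    rw [dif_neg]
    rintro ⟨y, hy, hβy⟩
    exact hβy (hinj hy ▸ hx')
  have hasupp : ∀ x, a x ≠ 0 → ∃ x', β x' ≠ 0 ∧ (pullback.fst f 𝔤) x' = x := by
    intro x hx
    by_contra hcon
    push_neg at hcon
    apply hx
    show (if h : ∃ y, (pullback.fst f 𝔤) y = x ∧ β y ≠ 0 then β h.choose * (p : ℤ) ^ (n - e h.choose) else 0) = _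
    rw [dif_neg]
    rintro ⟨y, hy, hβy⟩
    exact hcon y hβy hy
  let α : AlgebraicCycle X ℤ :=
    { toFun := a
      supportWithinDomain' := Set.subset_univ _
      supportLocallyFiniteWithinDomain' := fun z _ => by
        refine ⟨Set.univ, Filter.univ_mem, (hfin.image (pullback.fst f 𝔤)).subset ?_⟩
        rintro x ⟨-, hx⟩
        obtain ⟨x', hx', rfl⟩ := hasupp x hx
        exact ⟨x', hx', rfl⟩ }
  refine ⟨n, α, ?_, ?_⟩
  · intro x hx
    by_contra hne
    obtain ⟨x', hx', rfl⟩ := hasupp x hne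
    have h1 : δ' x' = r := by
      by_contra h
      exact hx' (hβ x' h)
    apply hx
    rw [← hδeq, h1]
  · funext x'
    show (p : ℤ) ^ n • β x' = Cyc.pullFun (pullback.fst f 𝔤) δ' δ 0 a x'
    unfold Cyc.pullFun
    rw [if_pos (by rw [hδeq, add_zero]), he x', ENat.toNat_coe]
    by_cases hx' : β x' = 0
    · rw [ha0 x' hx', hx']
      simp
    · rw [ha x' hx', smul_eq_mul]
      have h2 := hle x' hx'
      push_cast
      rw [mul_assoc (β x'), ← pow_add, Nat.sub_add_cancel h2]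
      ring

end Groth.Agent.Lib.Helper18.PerfBC
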